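import Groth.Agent.Props58.LocFree.Sections
import Groth.Agent.QC70.Colim
import Groth.Prelude.Def_CohB1
import Mathlib.RingTheory.LocalProperties.FinitePresentation
import Mathlib.Algebra.Category.ModuleCat.Kernels

/-! Finite presentation of quasi-coherent modules and of sections on affine opens. -/

set_option autoImplicit false
set_option backward.isDefEq.respectTransparency.types false

noncomputable section

universe u

open CategoryTheory Limits AlgebraicGeometry TopologicalSpace Opposite
open Groth.Agent.QC70

namespace Groth.Agent.Props58.LocFree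

variable {R : CommRingCat.{u}}

set_option backward.isDefEq.respectTransparency false in
/-- A finitely presented sheaf on a spectrum has finitely presented global sections. -/
lemma finitePresentation_top_of_presentation (N : (Spec R).Modules) (P : N.Presentation)
    [P.IsFinite] : Module.FinitePresentation R Γ(N, ⊤) := by
  let g := (tilde.functor R).preimage <| (tildeFinsupp P.relations.I).hom ≫ P.relations.π ≫
    kernel.ι _ ≫ (tildeFinsupp P.generators.I).inv
  let iso : cokernel ((tilde.functor R).map g) ≅ cokernel (P.relations.π ≫ kernel.ι _) := by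
    refine cokernel.mapIso _ _ (tildeFinsupp _) (tildeFinsupp _) ?_
    simp only [g, (tilde.functor R).map_preimage]
    simp
  let e : tilde (cokernel g) ≅ N := PreservesCokernel.iso (tilde.functor R) g ≪≫ iso ≪≫
    IsColimit.coconePointUniqueUpToIso (colimit.isColimit _) P.isColimit
  let e' : moduleSpecΓFunctor.obj N ≅ cokernel g :=
    (moduleSpecΓFunctor.mapIso e).symm ≪≫ (tilde.isoTop (cokernel g)).symm
  let e'' := (e' ≪≫ ModuleCat.cokernelIsoRangeQuotient g).toLinearEquiv
  have : Finite P.generators.I := inferInstance
  have : Finite P.relations.I := inferInstance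
  have hq : Module.FinitePresentation R
      ((ModuleCat.of R (P.generators.I →₀ R) : ModuleCat.{u} R) ⧸ LinearMap.range g.hom) := by
    refine Module.finitePresentation_of_surjective (Submodule.mkQ (LinearMap.range g.hom))
      (Submodule.mkQ_surjective _) ?_
    rw [Submodule.ker_mkQ]
    exact Submodule.fg_range _
  exact Module.FinitePresentation.of_equiv e''.symm

/-- The tilde of a finitely presented module has a finite presentation. -/
lemma exists_finite_presentation (M : ModuleCat.{u} R) [Module.FinitePresentation R M] :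
    ∃ P : (tilde M).Presentation, P.IsFinite := by
  classical
  obtain ⟨s, hs, hk⟩ := Module.FinitePresentation.out (R := R) (M := M)
  let f := Finsupp.linearCombination R ((↑) : (↑s : Set M) → M)
  obtain ⟨t, ht⟩ := hk
  refine ⟨presentationTilde M (s : Set M) hs (↑t) ht, ⟨?_, ?_⟩⟩
  · exact ⟨inferInstanceAs (Finite (↑s : Set M))⟩
  · exact ⟨inferInstanceAs (Finite (↑t : Set ((↑s : Set M) →₀ R)))⟩

variable {X : Scheme.{u}}

set_option backward.isDefEq.respectTransparency false in
/-- Finitely presented modules have finitely presented sections on small affine opens. -/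
lemma finitePresentation_of_over (M : X.Modules) {W : X.Opens}
    (P : (SheafOfModules.over.{u} (R := X.ringCatSheaf) M W).Presentation) [P.IsFinite] {V : X.Opens}
    (hV : IsAffineOpen V) (h : V ≤ W) : Module.FinitePresentation Γ(X, V) Γ(M, V) := by
  let u := hV.isoSpec.inv ≫ X.homOfLE h
  have : PreservesColimitsOfSize.{u, u} (Scheme.Modules.restrictFunctor u) := inferInstance
  let F := (Scheme.Modules.overEquiv W).functor ⋙ Scheme.Modules.restrictFunctor u
  let iso : SheafOfModules.overFunctor X.ringCatSheaf W ⋙ F ≅
      Scheme.Modules.restrictFunctor hV.fromSpec := (Functor.associator _ _ _).symm ≪≫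
      Functor.isoWhiskerRight (Scheme.Modules.overFunctorEquiv _) _ ≪≫
      (Scheme.Modules.restrictFunctorComp _ _).symm ≪≫
      Scheme.Modules.restrictFunctorCongr (by
        simp only [u, Category.assoc, X.homOfLE_ι]; rfl)
  let P₁ := P.map F (Scheme.Modules.restrictUnitIso u).symm
  have : P₁.IsFinite := ⟨⟨inferInstanceAs (Finite P.generators.I)⟩,
    ⟨inferInstanceAs (Finite P.relations.I)⟩⟩
  let P₂ := SheafOfModules.Presentation.ofIsIso.{u, u, u} (iso.app M).hom P₁
  have : P₂.IsFinite := ⟨⟨inferInstanceAs (Finite P.generators.I)⟩,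
    ⟨inferInstanceAs (Finite P.relations.I)⟩⟩
  have := finitePresentation_top_of_presentation _ P₂
  exact Module.FinitePresentation.of_equiv (specTopEquiv M hV)

/-- Sections of a finitely presented module on affine opens are finitely presented. -/
theorem finitePresentation_sections (M : X.Modules) [hM : CohB1.IsFP M] {U : X.Opens}
    (hU : IsAffineOpen U) : Module.FinitePresentation Γ(X, U) Γ(M, U) := by
  obtain ⟨σ, hσ⟩ := hM.exists_quasicoherentData
  have : M.IsQuasicoherent := σ.isQuasicoherent
  have hcov : IsOpenCover σ.X := (Opens.coversTop_iff _ _).mp σ.coversTop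
  have key : ∀ x : U, ∃ f : Γ(X, U), (x : X) ∈ X.basicOpen f ∧
      Module.FinitePresentation Γ(X, X.basicOpen f) Γ(M, X.basicOpen f) := by
    intro x
    obtain ⟨k, hxk⟩ := hcov.exists_mem (x : X)
    obtain ⟨f, hf, hxf⟩ := hU.exists_basicOpen_le ⟨(x : X), hxk⟩ x.2
    have := hσ.isFinite_presentation k
    exact ⟨f, hxf, finitePresentation_of_over M (σ.presentation k) (hU.basicOpen f) hf⟩
  choose f hxf hf using key
  have hs : Ideal.span (Set.range f) = ⊤ :=
    hU.iSup_basicOpen_eq_self_iff.mp <| le_antisymm (iSup_le fun r => X.basicOpen_le _)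
      fun y hy => Opens.mem_iSup.mpr ⟨⟨f ⟨y, hy⟩, ⟨y, hy⟩, rfl⟩, hxf ⟨y, hy⟩⟩
  letI := fun g : Set.range f => resAlg (X.basicOpen_le (g : Γ(X, U)))
  letI := fun g : Set.range f => resModule M (X.basicOpen_le (g : Γ(X, U)))
  haveI := fun g : Set.range f => isScalarTower_res M (X.basicOpen_le (g : Γ(X, U)))
  haveI := fun g : Set.range f => isLocalization_resAlg hU (g : Γ(X, U))
  haveI := fun g : Set.range f => isLocalizedModule_resLin M (isLocAt_of_isQuasicoherent M hU) (g : Γ(X, U))
  exact Module.FinitePresentation.of_localizationSpan' (Set.range f) hs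
    (Rₚ := fun g => Γ(X, X.basicOpen (g : Γ(X, U))))
    (fun g => resLin M (X.basicOpen_le (g : Γ(X, U)))) (by rintro ⟨_, x, rfl⟩; exact hf x)

lemma hasFinPres_of_iso {M N : X.Modules} (e : M ≅ N) (h : ∃ P : M.Presentation, P.IsFinite) :
    ∃ P : N.Presentation, P.IsFinite := by
  obtain ⟨P, hP⟩ := h
  exact ⟨SheafOfModules.Presentation.ofIsIso.{u, u, u} e.hom P,
    ⟨inferInstanceAs (Finite P.generators.I)⟩,
    ⟨inferInstanceAs (Finite P.relations.I)⟩⟩

set_option backward.isDefEq.respectTransparency false in
lemma hasFinPres_restrict {Y : Scheme.{u}} (f : Y ⟶ X) [IsOpenImmersion f] {M : X.Modules}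
    (h : ∃ P : M.Presentation, P.IsFinite) : ∃ P : (M.restrict f).Presentation, P.IsFinite := by
  obtain ⟨P, hP⟩ := h
  exact ⟨Scheme.Modules.presentationRestrict f P,
    ⟨inferInstanceAs (Finite P.generators.I)⟩, ⟨inferInstanceAs (Finite P.relations.I)⟩⟩

set_option backward.isDefEq.respectTransparency false in
lemma hasFinPres_over (M : X.Modules) {V : X.Opens}
    (h : ∃ P : (M.restrict V.ι).Presentation, P.IsFinite) :
    ∃ P : (SheafOfModules.over.{u} (R := X.ringCatSheaf) M V).Presentation, P.IsFinite := by
  obtain ⟨P, hP⟩ := h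
  let E := Scheme.Modules.overEquiv V
  let P₂ := SheafOfModules.Presentation.ofIsIso.{u, u, u}
    (((Scheme.Modules.overFunctorEquiv V).app M).symm).hom P
  exact ⟨SheafOfModules.Presentation.ofIsIso.{u, u, u} (E.unitIso.app (M.over V)).inv
    (P₂.map E.inverse (V.sheafOfModulesEquivOverInverseUnit X.ringCatSheaf).symm),
    ⟨inferInstanceAs (Finite P.generators.I)⟩, ⟨inferInstanceAs (Finite P.relations.I)⟩⟩

set_option backward.isDefEq.respectTransparency false in
/-- A quasi-coherent module with finitely presented sections on an affine cover is finitely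
presented. -/
theorem isFP_of_sections (M : X.Modules) [M.IsQuasicoherent] {κ : Type u} (V : κ → X.Opens)
    (hcov : IsOpenCover V) (hV : ∀ k, IsAffineOpen (V k))
    (h : ∀ k, Module.FinitePresentation Γ(X, V k) Γ(M, V k)) : CohB1.IsFP M := by
  have key : ∀ k, ∃ P : (SheafOfModules.over.{u} (R := X.ringCatSheaf) M (V k)).Presentation,
      P.IsFinite := by
    intro k
    let N := specRes M (hV k)
    have := h k
    have : Module.FinitePresentation Γ(X, V k) (moduleSpecΓFunctor.obj N) :=
      Module.FinitePresentation.of_equiv (specTopEquiv M (hV k)).symm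
    have : IsIso N.fromTildeΓ :=
      (isLocAt_iff_isIso_fromTildeΓ M (hV k)).mp (isLocAt_of_isQuasicoherent M (hV k))
    have h₁ := hasFinPres_of_iso (asIso N.fromTildeΓ)
      (exists_finite_presentation (moduleSpecΓFunctor.obj N))
    have h₂ := hasFinPres_restrict (hV k).isoSpec.hom h₁
    have h₃ := hasFinPres_of_iso
      (((Scheme.Modules.restrictFunctorComp (hV k).isoSpec.hom (hV k).fromSpec).app M).symm ≪≫
          (Scheme.Modules.restrictFunctorCongr (hV k).isoSpec_hom_fromSpec).app M) h₂
    exact hasFinPres_over M h₃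
  choose P hP using key
  let σ : SheafOfModules.QuasicoherentData.{u, u} M :=
    { I := κ, X := V, coversTop := (Opens.coversTop_iff _ _).mpr hcov, presentation := P }
  have hσ : σ.shrink.IsFinitePresentation :=
    SheafOfModules.QuasicoherentData.IsFinitePresentation.mk (q := σ.shrink) fun i => hP _
  exact SheafOfModules.IsFinitePresentation.mk (M := M) ⟨σ.shrink, hσ⟩

end Groth.Agent.Props58.LocFree
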