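import Groth.Agent.Props58.LocFree.Basis
import Groth.Agent.Props58.LocFree.FP
import Mathlib.RingTheory.Spectrum.Prime.FreeLocus
import Mathlib.LinearAlgebra.TensorProduct.Pi

/-! Criteria for finite locally free modules. -/

set_option autoImplicit false
set_option backward.isDefEq.respectTransparency.types false

noncomputable section

universe u

open CategoryTheory Limits AlgebraicGeometry TopologicalSpace Opposite
open Groth.Agent.QC70
open scoped TensorProduct

namespace Groth.Agent.Props58.LocFree

variable {X : Scheme.{u}} {M : X.Modules}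

lemma isFiniteType_of_isFinLocFree (h : FlatMod.IsFinLocFree M) : M.IsFiniteType := by
  choose U n s hx hs using isFinLocFree_iff.mp h
  exact isFiniteType_of_locGenBy M U
    (IsOpenCover.mk (top_le_iff.mp fun x _ => Opens.mem_iSup.mpr ⟨x, hx x⟩))
    fun x => ⟨ULift.{u} (Fin (n x)), inferInstance, _, (hs x).locGenBy⟩

lemma isLocAt_of_stalkBasis {U : X.Opens} {n : ℕ} {s : Fin n → Γ(M, U)} (hs : StalkBasis s)
    (hU : IsAffineOpen U) : IsLocAt M U where
  exists_of f z := by
    obtain ⟨a, ha⟩ := hs.exists_comb (X.basicOpen_le f) z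
    choose k b hb using fun i => (isLocAt_unit hU).exists_of f (toUnit (a i))
    let K := Finset.univ.sup k
    refine ⟨K, ∑ i, (f ^ (K - k i) * (show Γ(X, U) from b i)) • s i, ?_⟩
    rw [res_sum, ← ha, Finset.smul_sum]
    refine Finset.sum_congr rfl fun i _ => ?_
    have hb' : resO X (X.basicOpen_le f) (b i : Γ(X, U)) =
        resO X (X.basicOpen_le f) f ^ k i * a i := hb i
    rw [res_smul, smul_smul]
    congr 1
    simp only [resO, map_mul, map_pow] at hb' ⊢
    rw [hb', ← mul_assoc, ← pow_add, Nat.sub_add_cancel (Finset.le_sup (Finset.mem_univ i))]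
  eq_zero_of f t ht := by
    obtain ⟨a, rfl⟩ := hs.exists_comb le_rfl t
    have h0 : (fun i => resO X (X.basicOpen_le f) (a i)) = 0 := by
      refine hs.eq_of_comb (X.basicOpen_le f) ?_
      simp only [Pi.zero_apply, zero_smul, Finset.sum_const_zero]
      rw [res_sum] at ht
      refine Eq.trans (Finset.sum_congr rfl fun i _ => ?_) ht
      rw [res_smul, res_res]
    choose k hk using fun i => (isLocAt_unit hU).eq_zero_of f (toUnit (a i)) (congrFun h0 i)
    refine ⟨Finset.univ.sup k, ?_⟩
    rw [Finset.smul_sum]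
    refine Finset.sum_eq_zero fun i _ => ?_
    have hk' : f ^ k i * a i = 0 := hk i
    rw [smul_smul, show f ^ (Finset.univ.sup k) * a i = 0 by
      rw [← Nat.sub_add_cancel (Finset.le_sup (f := k) (Finset.mem_univ i)), pow_add, mul_assoc, hk',
        mul_zero], zero_smul]

lemma isQuasicoherent_of_isFinLocFree (h : FlatMod.IsFinLocFree M) : M.IsQuasicoherent := by
  have key : ∀ x : X, ∃ V : X.Opens, x ∈ V ∧ IsAffineOpen V ∧ IsLocAt M V := by
    intro x
    obtain ⟨U, n, s, hx, hs⟩ := isFinLocFree_iff.mp h x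
    obtain ⟨V, hV, hxV, hVU⟩ := exists_isAffineOpen_mem_and_subset hx
    exact ⟨V, hxV, hV, isLocAt_of_stalkBasis (hs.restrict hVU) hV⟩
  choose V hxV hV hloc using key
  exact isQuasicoherent_of_isLocAt M V
    (IsOpenCover.mk (top_le_iff.mp fun x _ => Opens.mem_iSup.mpr ⟨x, hxV x⟩)) hV hloc

lemma isFP_of_isFinLocFree (h : FlatMod.IsFinLocFree M) : CohB1.IsFP M := by
  have := isQuasicoherent_of_isFinLocFree h
  have key : ∀ x : X, ∃ V : X.Opens, x ∈ V ∧ IsAffineOpen V ∧
      Module.FinitePresentation Γ(X, V) Γ(M, V) := by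
    intro x
    obtain ⟨U, n, s, hx, hs⟩ := isFinLocFree_iff.mp h x
    obtain ⟨V, hV, hxV, hVU⟩ := exists_isAffineOpen_mem_and_subset hx
    refine ⟨V, hxV, hV, ?_⟩
    let l := Fintype.linearCombination Γ(X, V) fun i => res M hVU (s i)
    have hl : Function.Bijective l := by
      have : ⇑l = fun a : Fin n → Γ(X, V) => ∑ i, a i • res M hVU (s i) :=
        funext fun a => Fintype.linearCombination_apply _ _ _
      rw [this]
      exact hs.bijective hVU
    exact Module.FinitePresentation.of_equiv (LinearEquiv.ofBijective l hl)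
  choose V hxV hV hfp using key
  exact isFP_of_sections M V
    (IsOpenCover.mk (top_le_iff.mp fun x _ => Opens.mem_iSup.mpr ⟨x, hxV x⟩)) hV hfp

lemma free_stalk_of_isFinLocFree (h : FlatMod.IsFinLocFree M) (x : X) :
    Module.Free (X.presheaf.stalk x) (M.presheaf.stalk x) := by
  obtain ⟨U, n, s, hx, hs⟩ := isFinLocFree_iff.mp h x
  exact hs.free_stalk x hx

/-- The fibre rank of a module. -/
abbrev fiberRank (M : X.Modules) (x : X) : ℕ :=
  Module.finrank (IsLocalRing.ResidueField (X.presheaf.stalk x))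
    (TensorProduct (X.presheaf.stalk x) (IsLocalRing.ResidueField (X.presheaf.stalk x))
      (M.presheaf.stalk x))

lemma isLocallyConstant_fiberRank (h : FlatMod.IsFinLocFree M) :
    IsLocallyConstant (fiberRank M) := by
  refine (IsLocallyConstant.iff_exists_open _).mpr fun x => ?_
  obtain ⟨U, n, s, hx, hs⟩ := isFinLocFree_iff.mp h x
  exact ⟨U, U.2, hx, fun y hy => (hs.fiberRank_eq y hy).trans (hs.fiberRank_eq x hx).symm⟩

/-- The stalks of a finite type module are finitely generated. -/
lemma finite_stalk_of_isFiniteType [M.IsFiniteType] (x : X) :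
    Module.Finite (X.presheaf.stalk x) (M.presheaf.stalk x) := by
  obtain ⟨V, ι, _, t, hxV, ht⟩ := exists_locGenBy M x
  refine Module.Finite.of_surjective
    (Fintype.linearCombination (X.presheaf.stalk x) fun j => germM M V x hxV (t j)) fun e => ?_
  obtain ⟨W, hxW, z, rfl⟩ := germM_exist e
  obtain ⟨W', h₁, h₂, a, hx', e'⟩ := ht (W ⊓ V) inf_le_right (res M inf_le_left z) x ⟨hxW, hxV⟩
  refine ⟨fun j => X.presheaf.germ W' x hx' (a j), ?_⟩
  rw [Fintype.linearCombination_apply, ← germM_res (h₁.trans inf_le_left) hx',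
    ← res_res inf_le_left h₁, e', germM_sum]
  exact Finset.sum_congr rfl fun j _ => by rw [germM_smul, germM_res]

/-- Germs generating one stalk of a finite type module generate nearby stalks. -/
lemma exists_nhd_surjective [M.IsFiniteType] {U : X.Opens} {n : ℕ} (s : Fin n → Γ(M, U)) {x : X}
    (hx : x ∈ U) (hs : Function.Surjective (germComb s x hx)) :
    ∃ (W : X.Opens) (hW : W ≤ U), x ∈ W ∧
      ∀ y (hy : y ∈ W), Function.Surjective (germComb s y (hW hy)) := by
  obtain ⟨V, ι, _, t, hxV, ht⟩ := exists_locGenBy M x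
  have key : ∀ j, ∃ (W : X.Opens) (hW : W ≤ U) (hWV : W ≤ V) (a : Fin n → Γ(X, W)),
      x ∈ W ∧ ∑ i, a i • res M hW (s i) = res M hWV (t j) := by
    intro j
    obtain ⟨c, hc⟩ := hs (germM M V x hxV (t j))
    obtain ⟨W₀, hW₀, hxW₀, a, ha⟩ := exists_common_lift (U := U ⊓ V) (show x ∈ U ⊓ V from ⟨hx, hxV⟩) c
    obtain ⟨W, hW, hxW, e⟩ := exists_comb_eq (hW₀.trans inf_le_left) a
      (res M (hW₀.trans inf_le_right) (t j)) hxW₀ (by rw [funext ha, germM_res]; exact hc)
    refine ⟨W, hW.trans (hW₀.trans inf_le_left), hW.trans (hW₀.trans inf_le_right),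
      fun i => resO X hW (a i), hxW, ?_⟩
    rw [res_res] at e
    exact e
  choose Wj hWU hWV a hxWj ha using key
  let W : X.Opens := ⟨((U ⊓ V : X.Opens) : Set X) ∩ ⋂ j, (Wj j : Set X),
    (U ⊓ V : X.Opens).2.inter (isOpen_iInter_of_finite fun j => (Wj j).2)⟩
  have hWj : ∀ j, W ≤ Wj j := fun j z hz => Set.mem_iInter.mp hz.2 j
  have hWU' : W ≤ U := fun z hz => hz.1.1
  refine ⟨W, hWU', ⟨⟨hx, hxV⟩, Set.mem_iInter.mpr hxWj⟩, fun y hy e => ?_⟩
  obtain ⟨W₂, hyW₂, z, rfl⟩ := germM_exist e
  obtain ⟨W', h₁, h₂, b, hy', e'⟩ := ht (W₂ ⊓ V) inf_le_right (res M inf_le_left z) y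
    ⟨hyW₂, hy.1.2⟩
  have ht' : ∀ j, germM M V y hy.1.2 (t j) =
      germComb s y (hWU' hy) fun i => X.presheaf.germ (Wj j) y (hWj j hy) (a j i) := fun j => by
    rw [← germM_res (hWV j) (hWj j hy), ← ha j, germ_comb]
  refine ⟨fun i => ∑ j, X.presheaf.germ W' y hy' (b j) *
    X.presheaf.germ (Wj j) y (hWj j hy) (a j i), ?_⟩
  have e'' := congrArg (germM M W' y hy') e'
  rw [germM_res, germM_res, germM_sum] at e''
  refine Eq.trans ?_ e''.symm
  simp only [germComb, Finset.sum_smul, mul_smul]
  rw [Finset.sum_comm]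
  refine Finset.sum_congr rfl fun j _ => ?_
  rw [germM_smul, germM_res, ht', germComb, Finset.smul_sum]

/-- A lift of a finite family of elements of the stalk to a neighbourhood. -/
lemma exists_lift_family {n : ℕ} (x : X) (e : Fin n → M.presheaf.stalk x) :
    ∃ (U : X.Opens) (hx : x ∈ U) (s : Fin n → Γ(M, U)), ∀ i, germM M U x hx (s i) = e i := by
  choose V hV s hs using fun i => germM_exist (e i)
  let W : X.Opens := ⟨⋂ i, (V i : Set X), isOpen_iInter_of_finite fun i => (V i).2⟩
  have hWV : ∀ i, W ≤ V i := fun i z hz => Set.mem_iInter.mp hz i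
  exact ⟨W, Set.mem_iInter.mpr hV, fun i => res M (hWV i) (s i), fun i => by
    rw [germM_res]; exact hs i⟩

/-- A module of finite type with free stalks and locally constant fibre rank is finite locally
free. -/
theorem isFinLocFree_of_free_stalks [M.IsFiniteType]
    (hfree : ∀ x : X, Module.Free (X.presheaf.stalk x) (M.presheaf.stalk x))
    (hrk : IsLocallyConstant (fiberRank M)) : FlatMod.IsFinLocFree M := by
  refine isFinLocFree_iff.mpr fun x => ?_
  have hfin := fun y : X => finite_stalk_of_isFiniteType (M := M) y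
  have := hfree x
  have := hfin x
  let b := Module.finBasis (X.presheaf.stalk x) (M.presheaf.stalk x)
  obtain ⟨U, hx, s, hs⟩ := exists_lift_family x b
  have hsurj : Function.Surjective (germComb s x hx) := fun e => ⟨fun i => b.repr e i, by
    simp only [germComb, hs]
    exact b.sum_repr e⟩
  obtain ⟨W, hW, hxW, hWs⟩ := exists_nhd_surjective s hx hsurj
  obtain ⟨O, hO, hxO, hOc⟩ := (IsLocallyConstant.iff_exists_open _).mp hrk x
  refine ⟨W ⊓ ⟨O, hO⟩, _, fun i => res M (inf_le_left.trans hW) (s i), ⟨hxW, hxO⟩, fun y hy => ?_⟩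
  have hn : Module.finrank (X.presheaf.stalk y) (M.presheaf.stalk y) =
      Module.finrank (X.presheaf.stalk x) (M.presheaf.stalk x) := by
    have := hfree y
    have h := hOc y hy.2
    simp only [fiberRank, Module.finrank_baseChange] at h
    exact h
  have := hfree y
  have := hfin y
  let e : M.presheaf.stalk y ≃ₗ[X.presheaf.stalk y]
      (Fin (Module.finrank (X.presheaf.stalk x) (M.presheaf.stalk x)) → X.presheaf.stalk y) :=
    ((Module.finBasis (X.presheaf.stalk y) (M.presheaf.stalk y)).reindex (finCongr hn)).equivFun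
  let l := Fintype.linearCombination (X.presheaf.stalk y)
    fun i => germM M U y (hW hy.1) (s i)
  have hl : ⇑l = germComb s y (hW hy.1) := funext fun c => by
    rw [Fintype.linearCombination_apply]; rfl
  have hle : Function.Surjective (e.toLinearMap ∘ₗ l) :=
    e.surjective.comp (hl ▸ hWs y hy.1)
  have hinj := OrzechProperty.injective_of_surjective_endomorphism _ hle
  have hbij : Function.Bijective l := ⟨Function.Injective.of_comp (f := e) hinj, hl ▸ hWs y hy.1⟩
  have : germComb (fun i => res M (inf_le_left.trans hW : W ⊓ ⟨O, hO⟩ ≤ U) (s i)) y hy = ⇑l := by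
    rw [hl]; exact funext (germComb_res s _ y hy)
  rw [this]
  exact hbij

/-- A kernel element of a minimal surjection from a free module has coefficients in the maximal
ideal. -/
lemma residue_eq_zero {A : Type*} [CommRing A] [IsLocalRing A] {N : Type*} [AddCommGroup N]
    [Module A N] {n : ℕ} (l : (Fin n → A) →ₗ[A] N) (hl : Function.Surjective l)
    (hn : Module.finrank (IsLocalRing.ResidueField A)
      (TensorProduct A (IsLocalRing.ResidueField A) N) = n)
    (c : Fin n → A) (hc : l c = 0) (i : Fin n) : IsLocalRing.residue A (c i) = 0 := by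
  let κ := IsLocalRing.ResidueField A
  let e := TensorProduct.piScalarRight A κ κ (Fin n)
  let g : TensorProduct A κ (Fin n → A) →ₗ[κ] TensorProduct A κ N := l.baseChange κ
  have hg : Function.Surjective g := LinearMap.lTensor_surjective κ hl
  have hfin : Module.Finite A N := Module.Finite.of_surjective l hl
  have hinj : Function.Injective g := by
    refine (LinearMap.injective_iff_surjective_of_finrank_eq_finrank ?_).mpr hg
    rw [hn, e.finrank_eq, Module.finrank_fin_fun]
  have h0 : (1 : κ) ⊗ₜ[A] c = 0 := hinj (by simp [g, hc])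
  have := congrFun (congrArg e h0) i
  simpa [e, κ, Algebra.smul_def] using this

/-- On a reduced scheme, finite type and locally constant fibre rank imply finite locally free. -/
theorem isFinLocFree_of_isReduced [IsReduced X] [M.IsFiniteType]
    (hrk : IsLocallyConstant (fiberRank M)) : FlatMod.IsFinLocFree M := by
  refine isFinLocFree_iff.mpr fun x => ?_
  have hfin := fun y : X => finite_stalk_of_isFiniteType (M := M) y
  let κ := IsLocalRing.ResidueField (X.presheaf.stalk x)
  let b := Module.finBasis κ (TensorProduct (X.presheaf.stalk x) κ (M.presheaf.stalk x))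
  choose e he using fun i => TensorProduct.mk_surjective (X.presheaf.stalk x) (M.presheaf.stalk x) κ
    IsLocalRing.residue_surjective (b i)
  obtain ⟨U, hx, s, hs⟩ := exists_lift_family x e
  have hsurj : Function.Surjective (germComb s x hx) := by
    intro z
    have h := IsLocalRing.span_eq_top_of_tmul_eq_basis (R := X.presheaf.stalk x) e b he
    obtain ⟨c, hc⟩ := (Submodule.mem_span_range_iff_exists_fun _).mp (h ▸ Submodule.mem_top : z ∈ _)
    exact ⟨c, by simp only [germComb, hs]; exact hc⟩
  obtain ⟨W, hW, hxW, hWs⟩ := exists_nhd_surjective s hx hsurj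
  obtain ⟨O, hO, hxO, hOc⟩ := (IsLocallyConstant.iff_exists_open _).mp hrk x
  refine ⟨W ⊓ ⟨O, hO⟩, _, fun i => res M (inf_le_left.trans hW) (s i), ⟨hxW, hxO⟩, fun y hy => ?_⟩
  have : germComb (fun i => res M (inf_le_left.trans hW : W ⊓ ⟨O, hO⟩ ≤ U) (s i)) y hy =
      germComb s y (hW hy.1) := funext (germComb_res s _ y hy)
  rw [this]
  refine ⟨fun c d hcd => ?_, hWs y hy.1⟩
  obtain ⟨V, hV, hyV, a, ha⟩ := exists_common_lift (U := W ⊓ ⟨O, hO⟩) hy (c - d)
  have h0 : germComb s y (hW hy.1) (c - d) = 0 := by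
    simp only [germComb, Pi.sub_apply, sub_smul, Finset.sum_sub_distrib]
    exact sub_eq_zero.mpr hcd
  obtain ⟨V', hV', hyV', e'⟩ := exists_comb_eq (hV.trans (inf_le_left.trans hW)) a 0 hyV (by
    rw [funext ha, h0]; exact (germM_zero hyV).symm)
  rw [res_zero] at e'
  have hzero : ∀ i, resO X hV' (a i) = 0 := by
    intro i
    refine eq_zero_of_basicOpen_eq_bot (s := resO X hV' (a i)) ?_
    refine le_bot_iff.mp fun q hq => ?_
    have hqV' : q ∈ V' := X.basicOpen_le _ hq
    have hqW : q ∈ W ⊓ ⟨O, hO⟩ := hV (hV' hqV')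
    have hu := isUnit_germ hq
    let A := X.presheaf.stalk q
    let κq := IsLocalRing.ResidueField A
    let l : (Fin _ → A) →ₗ[A] M.presheaf.stalk q :=
      Fintype.linearCombination A fun i => germM M U q (hW hqW.1) (s i)
    have hl : Function.Surjective l := fun z => by
      obtain ⟨w, hw⟩ := hWs q hqW.1 z
      exact ⟨w, by rw [Fintype.linearCombination_apply]; exact hw⟩
    have hr := hOc q hqW.2
    let c₀ : Fin _ → A := fun j => X.presheaf.germ V' q hqV' (resO X hV' (a j))
    have hc₀ : l c₀ = 0 := by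
      rw [Fintype.linearCombination_apply]
      refine Eq.trans ?_ ((congrArg (germM M V' q hqV') e').trans (germM_zero hqV'))
      simp only [germM_sum, germM_smul, germM_res]
      rfl
    have h1 := residue_eq_zero l hl hr c₀ hc₀ i
    exact ((IsLocalRing.residue_ne_zero_iff_isUnit _).mpr hu h1).elim
  funext i
  have := congrArg (fun r => X.presheaf.germ V' y hyV' r) (hzero i)
  rw [germ_resO, ha, map_zero, Pi.sub_apply, sub_eq_zero] at this
  exact this

end Groth.Agent.Props58.LocFree
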