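import Groth.Agent.Props58.LocFree.Criteria
import Groth.Agent.QCRes72.Basic

/-! Finitely presented modules with free stalks are finite locally free; modules on spectra. -/

set_option autoImplicit false
set_option backward.isDefEq.respectTransparency.types false

noncomputable section

universe u

open CategoryTheory Limits AlgebraicGeometry TopologicalSpace Opposite
open Groth.Agent.QC70

namespace Groth.Agent.Props58.LocFree

variable {X : Scheme.{u}} {M : X.Modules}

attribute [local instance] RingHomInvPair.of_ringEquiv in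
/-- Freeness does not depend on the choice of localization. -/
lemma free_of_localization_free {R N Rₛ Nₛ : Type*} [CommRing R] [AddCommGroup N] [Module R N]
    (S : Submonoid R) [CommRing Rₛ] [Algebra R Rₛ] [IsLocalization S Rₛ] [AddCommGroup Nₛ]
    [Module R Nₛ] [Module Rₛ Nₛ] [IsScalarTower R Rₛ Nₛ] (f : N →ₗ[R] Nₛ) [IsLocalizedModule S f]
    (h : Module.Free (Localization S) (LocalizedModule S N)) : Module.Free Rₛ Nₛ := by
  set e := (IsLocalization.algEquiv S (Localization S) Rₛ).toRingEquiv
  refine (Module.Free.iff_of_equiv (σ := e) ?_).mp h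
  refine { __ := IsLocalizedModule.iso S f, map_smul' := ?_ }
  intro r x
  obtain ⟨r, s, rfl⟩ := IsLocalization.exists_mk'_eq S r
  apply ((Module.End.isUnit_iff _).mp (IsLocalizedModule.map_units f s)).1
  simp [e, ← map_smul, ← smul_assoc]

/-- A basis of the sections on an affine open of a quasi-coherent module gives bases of stalks. -/
lemma stalkBasis_of_basis [M.IsQuasicoherent] {U : X.Opens} (hU : IsAffineOpen U) {n : ℕ}
    (b : Module.Basis (Fin n) Γ(X, U) Γ(M, U)) : StalkBasis fun i => b i := by
  intro y hy
  letI := stalkModule M hy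
  letI : Algebra Γ(X, U) (X.presheaf.stalk y) := (X.presheaf.germ U y hy).hom.toAlgebra
  haveI : IsScalarTower Γ(X, U) (X.presheaf.stalk y) (M.presheaf.stalk y) :=
    IsScalarTower.of_algebraMap_smul fun _ _ => rfl
  haveI : IsLocalization.AtPrime (X.presheaf.stalk y) (hU.primeIdealOf ⟨y, hy⟩).asIdeal :=
    hU.isLocalization_stalk ⟨y, hy⟩
  haveI := isLocalizedModule_germ (isLocAt_of_isQuasicoherent M hU) hU hy
  let b' := b.ofIsLocalizedModule (X.presheaf.stalk y)
    (hU.primeIdealOf ⟨y, hy⟩).asIdeal.primeCompl (germLinear M hy)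
  have e : germComb (fun i => b i) y hy = ⇑b'.equivFun.symm := funext fun c => by
    rw [Module.Basis.equivFun_symm_apply]
    exact Finset.sum_congr rfl fun i _ => by
      rw [Module.Basis.ofIsLocalizedModule_apply]; rfl
  rw [e]
  exact b'.equivFun.symm.bijective

/-- A finitely presented module with free stalks is finite locally free. -/
theorem isFinLocFree_of_isFP (hFP : CohB1.IsFP M)
    (hfree : ∀ x : X, Module.Free (X.presheaf.stalk x) (M.presheaf.stalk x)) :
    FlatMod.IsFinLocFree M := by
  refine isFinLocFree_iff.mpr fun x => ?_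
  obtain ⟨U, hU, hx, -⟩ := exists_isAffineOpen_mem_and_subset (show x ∈ (⊤ : X.Opens) from trivial)
  have := finitePresentation_sections M hU
  letI := stalkModule M hx
  letI : Algebra Γ(X, U) (X.presheaf.stalk x) := (X.presheaf.germ U x hx).hom.toAlgebra
  haveI : IsScalarTower Γ(X, U) (X.presheaf.stalk x) (M.presheaf.stalk x) :=
    IsScalarTower.of_algebraMap_smul fun _ _ => rfl
  haveI : IsLocalization.AtPrime (X.presheaf.stalk x) (hU.primeIdealOf ⟨x, hx⟩).asIdeal :=
    hU.isLocalization_stalk ⟨x, hx⟩
  haveI := isLocalizedModule_germ (isLocAt_of_isQuasicoherent M hU) hU hx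
  haveI := hfree x
  obtain ⟨r, hr, hfr, -⟩ := Module.FinitePresentation.exists_free_localizedModule_powers
    (hU.primeIdealOf ⟨x, hx⟩).asIdeal.primeCompl (germLinear M hx) (X.presheaf.stalk x)
  have hxr : x ∈ X.basicOpen r := (mem_basicOpen_iff_primeCompl hU hx r).mpr hr
  letI := resAlg (X.basicOpen_le r)
  letI := resModule M (X.basicOpen_le r)
  haveI := isScalarTower_res M (X.basicOpen_le r)
  haveI := isLocalization_resAlg hU r
  haveI := isLocalizedModule_resLin M (isLocAt_of_isQuasicoherent M hU) r
  haveI : Module.Free Γ(X, X.basicOpen r) Γ(M, X.basicOpen r) :=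
    free_of_localization_free (Submonoid.powers r) (resLin M (X.basicOpen_le r)) hfr
  have := finite_sections_of_isFiniteType M (hU.basicOpen r)
  haveI : Nontrivial Γ(X, X.basicOpen r) := (X.presheaf.germ _ x hxr).hom.domain_nontrivial
  exact ⟨X.basicOpen r, _, _, hxr, stalkBasis_of_basis (hU.basicOpen r) (Module.finBasis _ _)⟩

lemma free_stalk_of_flat [CohB1.IsFP M] (x : X)
    (h : Module.Flat (X.presheaf.stalk x) (M.presheaf.stalk x)) :
    Module.Free (X.presheaf.stalk x) (M.presheaf.stalk x) := by
  have := finite_stalk_of_isFiniteType (M := M) x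
  exact Module.free_of_flat_of_isLocalRing

/-- Sections of a finite locally free module on an affine open are finitely generated projective. -/
theorem projective_sections (h : FlatMod.IsFinLocFree M) {U : X.Opens} (hU : IsAffineOpen U) :
    Module.Projective Γ(X, U) Γ(M, U) := by
  have := isFP_of_isFinLocFree h
  have := finitePresentation_sections M hU
  rw [← Module.freeLocus_eq_univ_iff, Set.eq_univ_iff_forall]
  intro p
  let y : X := hU.fromSpec p
  have hy : y ∈ U := hU.opensRange_fromSpec.le ⟨p, rfl⟩
  have hp : hU.primeIdealOf ⟨y, hy⟩ = p :=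
    hU.fromSpec.isOpenEmbedding.injective (hU.fromSpec_primeIdealOf ⟨y, hy⟩)
  letI := stalkModule M hy
  letI : Algebra Γ(X, U) (X.presheaf.stalk y) := (X.presheaf.germ U y hy).hom.toAlgebra
  haveI : IsScalarTower Γ(X, U) (X.presheaf.stalk y) (M.presheaf.stalk y) :=
    IsScalarTower.of_algebraMap_smul fun _ _ => rfl
  haveI : IsLocalization.AtPrime (X.presheaf.stalk y) p.asIdeal :=
    hp ▸ hU.isLocalization_stalk ⟨y, hy⟩
  haveI : IsLocalizedModule p.asIdeal.primeCompl (germLinear M hy) :=
    hp ▸ isLocalizedModule_germ (isLocAt_of_isQuasicoherent M hU) hU hy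
  rw [Module.mem_freeLocus_of_isLocalization p (X.presheaf.stalk y) (M.presheaf.stalk y)
    (germLinear M hy)]
  exact free_stalk_of_isFinLocFree h y

variable {R : CommRingCat.{u}}

/-- A module is finitely presented if and only if its tilde is. -/
theorem isFP_tilde_iff (T : ModuleCat.{u} R) :
    CohB1.IsFP (tilde T) ↔ Module.FinitePresentation R T := by
  constructor
  · intro h
    have := finitePresentation_sections (tilde T) (isAffineOpen_top (Spec R))
    have hb : Function.Bijective (algebraMap R Γ(Spec R, ⊤)) :=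
      (ConcreteCategory.bijective_of_isIso (Scheme.ΓSpecIso R).inv)
    have : Module.FinitePresentation R Γ(Spec R, ⊤) :=
      Module.FinitePresentation.of_equiv (LinearEquiv.ofBijective (Algebra.linearMap R Γ(Spec R, ⊤)) hb)
    have := Module.FinitePresentation.trans (R := R) (M := Γ(tilde T, ⊤)) Γ(Spec R, ⊤)
    have : Module.FinitePresentation R ((modulesSpecToSheaf.obj (tilde T)).presheaf.obj (op ⊤)) :=
      Module.FinitePresentation.trans (R := R) (M := Γ(tilde T, ⊤)) Γ(Spec R, ⊤)
    exact Module.FinitePresentation.of_equiv (tilde.isoTop T).toLinearEquiv.symm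
  · intro h
    obtain ⟨P, hP⟩ := hasFinPres_over (tilde T) (V := ⊤)
      (hasFinPres_restrict (⊤ : (Spec R).Opens).ι (exists_finite_presentation T))
    let σ : SheafOfModules.QuasicoherentData.{u, u} (tilde T) :=
      { I := PUnit, X := fun _ => ⊤
        coversTop := (Opens.coversTop_iff _ _).mpr (IsOpenCover.mk (iSup_const (ι := PUnit.{u + 1})))
        presentation := fun _ => P }
    have hσ : σ.shrink.IsFinitePresentation :=
      SheafOfModules.QuasicoherentData.IsFinitePresentation.mk (q := σ.shrink) fun _ => hP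
    exact SheafOfModules.IsFinitePresentation.mk (M := tilde T) ⟨σ.shrink, hσ⟩

instance invPair_top (R : CommRingCat.{u}) :
    RingHomInvPair (Scheme.ΓSpecIso R).inv.hom (Scheme.ΓSpecIso R).hom.hom where
  comp_eq := by rw [← CommRingCat.hom_comp, Iso.inv_hom_id, CommRingCat.hom_id]
  comp_eq₂ := by rw [← CommRingCat.hom_comp, Iso.hom_inv_id, CommRingCat.hom_id]

instance invPair_top' (R : CommRingCat.{u}) :
    RingHomInvPair (Scheme.ΓSpecIso R).hom.hom (Scheme.ΓSpecIso R).inv.hom where
  comp_eq := by rw [← CommRingCat.hom_comp, Iso.hom_inv_id, CommRingCat.hom_id]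
  comp_eq₂ := by rw [← CommRingCat.hom_comp, Iso.inv_hom_id, CommRingCat.hom_id]

/-- `T ≃ Γ(tilde T, ⊤)`, semilinearly. -/
def tildeTopEquiv (T : ModuleCat.{u} R) :
    T ≃ₛₗ[(Scheme.ΓSpecIso R).inv.hom] Γ(tilde T, ⊤) :=
  LinearEquiv.ofBijective (QCRes72.toTopₛₗ T)
    (ConcreteCategory.bijective_of_isIso (tilde.toOpen T ⊤))

/-- The tilde of a module is finite locally free iff the module is finite projective. -/
theorem isFinLocFree_tilde_iff (T : ModuleCat.{u} R) :
    FlatMod.IsFinLocFree (tilde T) ↔ Module.Finite R T ∧ Module.Projective R T := by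
  constructor
  · intro h
    refine ⟨(QCRes72.isFiniteType_tilde_iff T).mp (isFiniteType_of_isFinLocFree h), ?_⟩
    have := projective_sections h (isAffineOpen_top (Spec R))
    exact Module.Projective.of_equiv (tildeTopEquiv T).symm
  · rintro ⟨hfin, hproj⟩
    have hFP : CohB1.IsFP (tilde T) :=
      (isFP_tilde_iff T).mpr (Module.finitePresentation_of_projective R T)
    have : Module.Projective Γ(Spec R, ⊤) Γ(tilde T, ⊤) :=
      Module.Projective.of_equiv (tildeTopEquiv T)
    refine isFinLocFree_of_isFP hFP fun x => free_stalk_of_flat x ?_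
    have hU := isAffineOpen_top (Spec R)
    letI := stalkModule (tilde T) (show x ∈ (⊤ : (Spec R).Opens) from trivial)
    letI : Algebra Γ(Spec R, ⊤) ((Spec R).presheaf.stalk x) :=
      ((Spec R).presheaf.germ ⊤ x trivial).hom.toAlgebra
    haveI : IsScalarTower Γ(Spec R, ⊤) ((Spec R).presheaf.stalk x) ((tilde T).presheaf.stalk x) :=
      IsScalarTower.of_algebraMap_smul fun _ _ => rfl
    haveI : IsLocalization.AtPrime ((Spec R).presheaf.stalk x)
        (hU.primeIdealOf ⟨x, trivial⟩).asIdeal := hU.isLocalization_stalk ⟨x, trivial⟩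
    haveI := isLocalizedModule_germ (isLocAt_of_isQuasicoherent (tilde T) hU) hU
      (show x ∈ (⊤ : (Spec R).Opens) from trivial)
    have : Module.Projective ((Spec R).presheaf.stalk x) ((tilde T).presheaf.stalk x) :=
      Module.projective_of_isLocalizedModule
      (hU.primeIdealOf ⟨x, trivial⟩).asIdeal.primeCompl (germLinear (tilde T) (show x ∈ (⊤ : (Spec R).Opens) from trivial))
    infer_instance

end Groth.Agent.Props58.LocFree
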