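import Groth.Agent.Props58.LocFree.Sections
import Groth.Agent.QC70.Stalk
import Groth.Prelude.Def_FlatMod2
import Mathlib.Topology.Sheaves.LocalPredicate

/-! Local bases of modules: finitely many sections whose germs form bases of all stalks. -/

set_option autoImplicit false
set_option backward.isDefEq.respectTransparency.types false

noncomputable section

universe u

open CategoryTheory Limits AlgebraicGeometry TopologicalSpace Opposite
open Groth.Agent.QC70

namespace Groth.Agent.Props58.LocFree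

variable {X : Scheme.{u}} {M : X.Modules} {U : X.Opens} {n : ℕ}

/-- The combination of the germs of `s` with coefficients `c`. -/
def germComb (s : Fin n → Γ(M, U)) (y : X) (hy : y ∈ U) (c : Fin n → X.presheaf.stalk y) :
    M.presheaf.stalk y :=
  ∑ i, c i • germM M U y hy (s i)

/-- The germs of `s` form a basis of the stalk at every point of `U`. -/
def StalkBasis (s : Fin n → Γ(M, U)) : Prop :=
  ∀ (y : X) (hy : y ∈ U), Function.Bijective (germComb s y hy)

lemma germM_sum {ι : Type*} (t : Finset ι) {y : X} (hy : y ∈ U) (z : ι → Γ(M, U)) :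
    germM M U y hy (∑ i ∈ t, z i) = ∑ i ∈ t, germM M U y hy (z i) :=
  map_sum _ _ _

lemma germ_comb (s : Fin n → Γ(M, U)) {W : X.Opens} (h : W ≤ U) (a : Fin n → Γ(X, W)) (y : X)
    (hy : y ∈ W) :
    germM M W y hy (∑ i, a i • res M h (s i)) =
      germComb s y (h hy) (fun i => X.presheaf.germ W y hy (a i)) := by
  simp only [germComb, germM_sum, germM_smul, germM_res]

lemma germComb_res (s : Fin n → Γ(M, U)) {W : X.Opens} (h : W ≤ U) (y : X) (hy : y ∈ W)
    (c : Fin n → X.presheaf.stalk y) :
    germComb (fun i => res M h (s i)) y hy c = germComb s y (h hy) c := by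
  simp only [germComb, germM_res]

lemma StalkBasis.restrict {s : Fin n → Γ(M, U)} (hs : StalkBasis s) {W : X.Opens} (h : W ≤ U) :
    StalkBasis fun i => res M h (s i) := fun y hy => by
  have : germComb (fun i => res M h (s i)) y hy = germComb s y (h hy) :=
    funext (germComb_res s h y hy)
  rw [this]
  exact hs y (h hy)

/-- Finitely many germs lift to a common neighbourhood inside a given one. -/
lemma exists_common_lift {y : X} (hy : y ∈ U) (c : Fin n → X.presheaf.stalk y) :
    ∃ (W : X.Opens) (_ : W ≤ U) (hyW : y ∈ W) (a : Fin n → Γ(X, W)),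
      ∀ i, X.presheaf.germ W y hyW (a i) = c i := by
  choose V hV a ha using fun i => TopCat.Presheaf.exists_germ_eq X.presheaf (c i)
  let W : X.Opens := ⟨(U : Set X) ∩ ⋂ i, (V i : Set X),
    U.2.inter (isOpen_iInter_of_finite fun i => (V i).2)⟩
  have hWV : ∀ i, W ≤ V i := fun i z hz => Set.mem_iInter.mp hz.2 i
  refine ⟨W, fun z hz => hz.1, ⟨hy, Set.mem_iInter.mpr hV⟩, fun i => resO X (hWV i) (a i),
    fun i => ?_⟩
  rw [germ_resO]
  exact ha i

/-- An equality of germs of combinations holds on a neighbourhood. -/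
lemma exists_comb_eq {s : Fin n → Γ(M, U)} {W : X.Opens} (h : W ≤ U) (a : Fin n → Γ(X, W))
    (z : Γ(M, W)) {y : X} (hy : y ∈ W)
    (e : germComb s y (h hy) (fun i => X.presheaf.germ W y hy (a i)) = germM M W y hy z) :
    ∃ (W' : X.Opens) (h' : W' ≤ W), y ∈ W' ∧
      ∑ i, resO X h' (a i) • res M (h'.trans h) (s i) = res M h' z := by
  have e' : germM M W y hy (∑ i, a i • res M h (s i) - z) = 0 := by
    refine (map_sub (M.presheaf.germ W y hy).hom _ _).trans ?_
    exact sub_eq_zero.mpr ((germ_comb s h a y hy).trans e)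
  obtain ⟨W', h', hyW', h0⟩ := germM_eq_zero e'
  refine ⟨W', h', hyW', ?_⟩
  rw [res_sub, sub_eq_zero, res_sum] at h0
  refine Eq.trans (Finset.sum_congr rfl fun i _ => ?_) h0
  rw [res_smul, res_res]

namespace StalkBasis

variable {s : Fin n → Γ(M, U)} (hs : StalkBasis s)
include hs

lemma eq_of_comb {W : X.Opens} (h : W ≤ U) {a b : Fin n → Γ(X, W)}
    (e : ∑ i, a i • res M h (s i) = ∑ i, b i • res M h (s i)) : a = b := by
  funext i
  refine TopCat.Presheaf.section_ext X.sheaf W (a i) (b i) fun y hy => ?_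
  have e' := congrArg (germM M W y hy) e
  rw [germ_comb, germ_comb] at e'
  exact congrFun ((hs y (h hy)).1 e') i

lemma exists_comb {W : X.Opens} (h : W ≤ U) (z : Γ(M, W)) :
    ∃ a : Fin n → Γ(X, W), ∑ i, a i • res M h (s i) = z := by
  have hloc : ∀ y : W, ∃ (V : X.Opens) (hV : V ≤ W) (b : Fin n → Γ(X, V)),
      (y : X) ∈ V ∧ ∑ i, b i • res M (hV.trans h) (s i) = res M hV z := by
    intro y
    obtain ⟨c, hc⟩ := (hs y (h y.2)).2 (germM M W y y.2 z)
    obtain ⟨V, hV, hyV, a, ha⟩ := exists_common_lift y.2 c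
    obtain ⟨V', hV', hyV', e⟩ := exists_comb_eq (hV.trans h) a (res M hV z) hyV (by
      rw [funext ha, germM_res]; exact hc)
    refine ⟨V', hV'.trans hV, fun i => resO X hV' (a i), hyV', ?_⟩
    rw [res_res] at e
    exact e
  choose V hV b hyV hb using hloc
  have hcov : W ≤ ⨆ y, V y := fun y hy => Opens.mem_iSup.mpr ⟨⟨y, hy⟩, hyV ⟨y, hy⟩⟩
  have hcomp : ∀ (i : Fin n) (y y' : W),
      resO X (inf_le_left : V y ⊓ V y' ≤ V y) (b y i) =
        resO X (inf_le_right : V y ⊓ V y' ≤ V y') (b y' i) := by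
    intro i y y'
    refine congrFun (hs.eq_of_comb ((inf_le_left : V y ⊓ V y' ≤ V y).trans ((hV y).trans h))
      (a := fun j => resO X inf_le_left (b y j)) (b := fun j => resO X inf_le_right (b y' j)) ?_) i
    have e₁ := congrArg (res M (inf_le_left : V y ⊓ V y' ≤ V y)) (hb y)
    have e₂ := congrArg (res M (inf_le_right : V y ⊓ V y' ≤ V y')) (hb y')
    simp only [res_sum, res_smul, res_res] at e₁ e₂
    exact e₁.trans e₂.symm
  choose a ha hu using fun i => TopCat.Sheaf.existsUnique_gluing' X.sheaf V W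
    (fun y => homOfLE (hV y)) hcov (fun y => b y i) (fun y y' => hcomp i y y')
  refine ⟨a, section_ext' M V hV hcov _ _ fun y => ?_⟩
  rw [← hb y, res_sum]
  refine Finset.sum_congr rfl fun i _ => ?_
  rw [res_smul, res_res]
  exact congrArg (· • _) (ha i y)

/-- Sections on any smaller open are uniquely combinations of the basis. -/
lemma bijective {W : X.Opens} (h : W ≤ U) :
    Function.Bijective fun a : Fin n → Γ(X, W) => ∑ i, a i • res M h (s i) :=
  ⟨fun _ _ e => hs.eq_of_comb h e, hs.exists_comb h⟩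

lemma locGenBy : LocGenBy M U (fun i : ULift.{u} (Fin n) => s i.down) := by
  intro W hW x q hq
  obtain ⟨a, ha⟩ := hs.exists_comb hW x
  refine ⟨W, le_rfl, hW, fun i => a i.down, hq, ?_⟩
  rw [res_self, ← ha]
  exact Fintype.sum_equiv Equiv.ulift.symm _ _ fun _ => rfl

/-- The linear equivalence of a stalk with the free module. -/
def stalkEquiv (y : X) (hy : y ∈ U) :
    (Fin n → X.presheaf.stalk y) ≃ₗ[X.presheaf.stalk y] M.presheaf.stalk y :=
  LinearEquiv.ofBijective
    (Fintype.linearCombination (X.presheaf.stalk y) fun i => germM M U y hy (s i))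
    (by
      have : ⇑(Fintype.linearCombination (X.presheaf.stalk y) fun i => germM M U y hy (s i)) =
          germComb s y hy := funext fun c => by
        rw [Fintype.linearCombination_apply]; rfl
      rw [this]
      exact hs y hy)

lemma free_stalk (y : X) (hy : y ∈ U) : Module.Free (X.presheaf.stalk y) (M.presheaf.stalk y) :=
  Module.Free.of_equiv (hs.stalkEquiv y hy)

lemma finite_stalk (y : X) (hy : y ∈ U) :
    Module.Finite (X.presheaf.stalk y) (M.presheaf.stalk y) :=
  Module.Finite.equiv (hs.stalkEquiv y hy)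

lemma fiberRank_eq (y : X) (hy : y ∈ U) :
    Module.finrank (IsLocalRing.ResidueField (X.presheaf.stalk y))
      (TensorProduct (X.presheaf.stalk y) (IsLocalRing.ResidueField (X.presheaf.stalk y))
        (M.presheaf.stalk y)) = n := by
  have := hs.free_stalk y hy
  rw [Module.finrank_baseChange, ← (hs.stalkEquiv y hy).finrank_eq, Module.finrank_fin_fun]

end StalkBasis

variable (X) in
/-- The unit sections of the free module. -/
def unitVec (n : ℕ) (i : Fin n) : Γ(FlatMod.freeMod X n, ⊤) :=
  (Sigma.ι (fun _ : Fin n => Coh.structureModule X) i).app ⊤ (toUnit 1)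

lemma free_exists_comb {W : X.Opens} (z : Γ(FlatMod.freeMod X n, W)) :
    ∃ a : Fin n → Γ(X, W), ∑ i, a i • res _ le_top (unitVec X n i) = z := by
  classical
  let proj : ∀ i, FlatMod.freeMod X n ⟶ Coh.structureModule X := fun i =>
    Sigma.desc (fun j => if i = j then 𝟙 (Coh.structureModule X) else 0)
  let ιF := fun i => Sigma.ι (fun _ : Fin n => Coh.structureModule X) i
  have htot : (∑ i, proj i ≫ ιF i) = 𝟙 _ := by
    refine Sigma.hom_ext _ _ fun j => ?_
    rw [Preadditive.comp_sum, Category.comp_id]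
    refine (Finset.sum_eq_single j (fun i _ hij => ?_) (by simp)).trans ?_
    · simp [proj, ιF, hij]
    · simp [proj, ιF]
  refine ⟨fun i => ((proj i).app W z : Γ(unitMod X, W)), ?_⟩
  let ev : (FlatMod.freeMod X n ⟶ FlatMod.freeMod X n) →+ Γ(FlatMod.freeMod X n, W) :=
    AddMonoidHom.mk' (fun ψ => ψ.app W z) (fun _ _ => rfl)
  refine Eq.symm ?_
  calc z = ev (𝟙 _) := rfl
    _ = ev (∑ i, proj i ≫ ιF i) := by rw [htot]
    _ = ∑ i, ev (proj i ≫ ιF i) := map_sum _ _ _
    _ = _ := Finset.sum_congr rfl fun i _ => app_toUnit (ιF i) _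

lemma free_eq_of_comb {W : X.Opens} {a b : Fin n → Γ(X, W)}
    (e : (∑ i, a i • res (FlatMod.freeMod X n) (le_top : W ≤ ⊤) (unitVec X n i)) =
      ∑ i, b i • res (FlatMod.freeMod X n) (le_top : W ≤ ⊤) (unitVec X n i)) :
    a = b := by
  classical
  funext j
  let proj : FlatMod.freeMod X n ⟶ Coh.structureModule X :=
    Sigma.desc (fun i => if i = j then 𝟙 (Coh.structureModule X) else 0)
  have key : ∀ i, proj.app ⊤ (unitVec X n i) = toUnit (if i = j then 1 else 0) := by
    intro i
    change (Sigma.ι (fun _ : Fin n => Coh.structureModule X) i ≫ proj).app ⊤ (toUnit 1) = _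
    rw [Sigma.ι_desc]
    split_ifs <;> rfl
  have key' : ∀ c : Fin n → Γ(X, W),
      proj.app W (∑ i, c i • res _ le_top (unitVec X n i)) = toUnit (c j) := by
    intro c
    rw [map_sum, Finset.sum_eq_single j]
    · rw [Scheme.Modules.Hom.app_smul, app_res, key, if_pos rfl, res_unit, resO, map_one, smul_unit,
        mul_one]
    · intro i _ hij
      rw [Scheme.Modules.Hom.app_smul, app_res, key, if_neg hij, res_unit, resO, map_zero, smul_unit,
        mul_zero]
      rfl
    · exact fun h => absurd (Finset.mem_univ _) h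
  exact ((key' a).symm.trans ((congrArg (proj.app W) e).trans (key' b)) :)

/-- Combinations of sections of a restriction. -/
lemma restrictAppIso_comb (t : Fin n → Γ(M.restrict U.ι, ⊤)) (W : U.toScheme.Opens)
    (a : Fin n → Γ(U.toScheme, W)) :
    (M.restrictAppIso U.ι W).hom (∑ i, a i • res (M.restrict U.ι) le_top (t i)) =
      ∑ i, (U.ι.appIso W).inv (a i) •
        res M (U.ι.image_mono le_top) ((M.restrictAppIso U.ι ⊤).hom (t i)) := by
  rw [map_sum]
  refine Finset.sum_congr rfl fun i _ => ?_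
  rw [Scheme.Modules.smul_restrictAppIso_hom_apply]
  rfl

lemma exists_stalkBasis_of_iso (e : M.restrict U.ι ≅ FlatMod.freeMod (↑U) n) :
    ∃ s : Fin n → Γ(M, U), StalkBasis s := by
  let v : Fin n → Γ(M.restrict U.ι, ⊤) := fun i => e.inv.app ⊤ (unitVec _ n i)
  let s : Fin n → Γ(M, U) := fun i => res M U.ι_image_top.ge ((M.restrictAppIso U.ι ⊤).hom (v i))
  have hinv : ∀ (W : U.toScheme.Opens) (a : Fin n → Γ(U.toScheme, W)),
      (M.restrictAppIso U.ι W).hom (e.inv.app W (∑ i, a i • res _ le_top (unitVec _ n i))) =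
        ∑ i, (U.ι.appIso W).inv (a i) •
          res M ((U.ι.image_mono le_top).trans U.ι_image_top.le) (s i) := by
    intro W a
    rw [map_sum]
    simp only [Scheme.Modules.Hom.app_smul, app_res]
    rw [restrictAppIso_comb]
    exact Finset.sum_congr rfl fun i _ => by rw [res_res]
  have hbij : ∀ (W : U.toScheme.Opens), Function.Bijective
      fun x : Γ(FlatMod.freeMod U.toScheme n, W) => (M.restrictAppIso U.ι W).hom (e.inv.app W x) := by
    intro W
    exact (ConcreteCategory.bijective_of_isIso (M.restrictAppIso U.ι W).hom).comp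
      (ConcreteCategory.bijective_of_isIso (e.inv.app W))
  refine ⟨s, fun y hy => ⟨fun c d h => ?_, fun z => ?_⟩⟩
  · obtain ⟨V, hV, hyV, a, ha⟩ := exists_common_lift hy (c - d)
    have h0 : germComb s y hy (c - d) = 0 := by
      simp only [germComb, Pi.sub_apply, sub_smul, Finset.sum_sub_distrib]
      exact sub_eq_zero.mpr h
    obtain ⟨V', hV', hyV', e'⟩ := exists_comb_eq hV a 0 hyV (by
      rw [funext ha, h0]; exact (germM_zero hyV).symm)
    rw [res_zero] at e'
    let W := U.ι ⁻¹ᵁ V'
    have hW : U.ι ''ᵁ W ≤ V' := U.ι.image_preimage_le V'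
    let b : Fin n → Γ(U.toScheme, W) := fun i => (U.ι.appIso W).hom (resO X (hW.trans hV') (a i))
    have hb : b = 0 := by
      refine free_eq_of_comb ((hbij W).1 ?_)
      show (M.restrictAppIso U.ι W).hom (e.inv.app W _) = (M.restrictAppIso U.ι W).hom (e.inv.app W _)
      rw [hinv, hinv]
      simp only [Pi.zero_apply, map_zero, zero_smul, Finset.sum_const_zero, b, Iso.hom_inv_id_apply]
      have := congrArg (res M hW) e'
      rw [res_sum, res_zero] at this
      refine Eq.trans (Finset.sum_congr rfl fun i _ => ?_) this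
      rw [res_smul, resO_resO]
      simp only [s, res_res]
    funext i
    have hi : resO X (hW.trans hV') (a i) = 0 := by
      have := congrArg (U.ι.appIso W).inv (congrFun hb i)
      simp only [b, Pi.zero_apply, map_zero, Iso.hom_inv_id_apply] at this
      exact this
    have := congrArg (fun r => X.presheaf.germ (U.ι ''ᵁ W) y ⟨⟨y, hy⟩, hyV', rfl⟩ r) hi
    rw [germ_resO, ha, map_zero, Pi.sub_apply, sub_eq_zero] at this
    exact this
  · obtain ⟨V, hyV, x, rfl⟩ := germM_exist z
    let W := U.ι ⁻¹ᵁ V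
    have hW : U.ι ''ᵁ W ≤ V := U.ι.image_preimage_le V
    obtain ⟨p, hp⟩ := (hbij W).2 (res M hW x)
    obtain ⟨a, ha⟩ := free_exists_comb p
    rw [← ha] at hp
    have hyW : y ∈ U.ι ''ᵁ W := ⟨⟨y, hy⟩, hyV, rfl⟩
    refine ⟨fun i => X.presheaf.germ _ y hyW ((U.ι.appIso W).inv (a i)), ?_⟩
    rw [← germ_comb s ((U.ι.image_mono le_top).trans U.ι_image_top.le), ← hinv]
    exact (congrArg (germM M _ y hyW) hp).trans (germM_res hW hyW x)

lemma nonempty_iso_of_stalkBasis {s : Fin n → Γ(M, U)} (hs : StalkBasis s) :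
    Nonempty (M.restrict U.ι ≅ FlatMod.freeMod (↑U) n) := by
  let N := M.restrict U.ι
  let t : Fin n → Γ(N, ⊤) := fun i =>
    (M.restrictAppIso U.ι ⊤).inv (res M U.ι_image_top.le (s i))
  let g : ∀ _ : Fin n, Coh.structureModule U.toScheme ⟶ N := fun i =>
    N.unitHomEquiv.symm ⟨fun W => res N (le_top : W.unop ≤ ⊤) (t i),
      fun {W _} j => res_res (le_top : W.unop ≤ ⊤) (leOfHom j.unop) (t i)⟩
  let ψ : FlatMod.freeMod U.toScheme n ⟶ N := Sigma.desc g
  have hg : ∀ i, ψ.app ⊤ (unitVec _ n i) = t i := by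
    intro i
    change (Sigma.ι (fun _ : Fin n => Coh.structureModule U.toScheme) i ≫ ψ).app ⊤ (toUnit 1) = _
    rw [Sigma.ι_desc]
    refine (one_smul Γ(U.toScheme, ⊤) _).trans ?_
    exact res_self (t i)
  have : IsIso ψ := by
    refine Scheme.Modules.Hom.isIso_iff_isIso_app.2 fun W => ?_
    rw [ConcreteCategory.isIso_iff_bijective]
    have hW : U.ι ''ᵁ W ≤ U := (U.ι.image_mono le_top).trans U.ι_image_top.le
    have key : ∀ a : Fin n → Γ(U.toScheme, W),
        (M.restrictAppIso U.ι W).hom (ψ.app W (∑ i, a i • res _ le_top (unitVec _ n i))) =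
          ∑ i, (U.ι.appIso W).inv (a i) • res M hW (s i) := by
      intro a
      rw [map_sum]
      simp only [Scheme.Modules.Hom.app_smul, app_res, hg]
      rw [restrictAppIso_comb]
      refine Finset.sum_congr rfl fun i _ => ?_
      simp only [t, Iso.inv_hom_id_apply, res_res]
    constructor
    · intro p q hpq
      obtain ⟨a, rfl⟩ := free_exists_comb p
      obtain ⟨b, rfl⟩ := free_exists_comb q
      have h1 := congrArg (M.restrictAppIso U.ι W).hom hpq
      rw [key, key] at h1
      have h2 := hs.eq_of_comb hW h1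
      have : a = b := funext fun i =>
        (ConcreteCategory.bijective_of_isIso (U.ι.appIso W).inv).1 (congrFun h2 i)
      rw [this]
    · intro z
      obtain ⟨a, ha⟩ := hs.exists_comb hW ((M.restrictAppIso U.ι W).hom z)
      refine ⟨∑ i, (U.ι.appIso W).hom (a i) • res _ le_top (unitVec _ n i),
        (ConcreteCategory.bijective_of_isIso (M.restrictAppIso U.ι W).hom).1 ?_⟩
      rw [key, ← ha]
      exact Finset.sum_congr rfl fun i _ => by rw [Iso.hom_inv_id_apply]
  exact ⟨(asIso ψ).symm⟩

theorem isFinLocFree_iff : FlatMod.IsFinLocFree M ↔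
    ∀ x : X, ∃ (U : X.Opens) (n : ℕ) (s : Fin n → Γ(M, U)), x ∈ U ∧ StalkBasis s := by
  constructor
  · intro h x
    obtain ⟨U, n, hx, ⟨e⟩⟩ := h x
    obtain ⟨s, hs⟩ := exists_stalkBasis_of_iso e
    exact ⟨U, n, s, hx, hs⟩
  · intro h x
    obtain ⟨U, n, s, hx, hs⟩ := h x
    exact ⟨U, n, hx, nonempty_iso_of_stalkBasis hs⟩

end Groth.Agent.Props58.LocFree
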