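import Groth.Agent.QC70.Coherent
import Groth.Agent.QC70.StalkLoc

/-! Sections of a module on an affine open as global sections on the spectrum; localization. -/

set_option autoImplicit false
set_option backward.isDefEq.respectTransparency.types false

noncomputable section

universe u

open CategoryTheory Limits AlgebraicGeometry TopologicalSpace Opposite
open Groth.Agent.QC70

namespace Groth.Agent.Props58.LocFree

variable {X : Scheme.{u}} (M : X.Modules) {U : X.Opens}

/-- Global sections of the pullback to the spectrum are the sections on the affine open. -/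
def specTopEquiv (hU : IsAffineOpen U) :
    Γ(specRes M hU, ⊤) ≃ₗ[Γ(X, U)] Γ(M, U) :=
  have himTop : hU.fromSpec ''ᵁ ⊤ = U := by
    rw [Scheme.Hom.image_top_eq_opensRange, hU.opensRange_fromSpec]
  { toFun := fun x => res M himTop.ge ((M.restrictAppIso hU.fromSpec ⊤).hom x)
    invFun := fun y => (M.restrictAppIso hU.fromSpec ⊤).inv (res M himTop.le y)
    map_add' := fun x y => by simp only [map_add]
    map_smul' := fun r x => by
      rw [specRes_smul M hU ⊤ himTop.le, res_smul, resO_resO, resO_self]
      rfl
    left_inv := fun x => by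
      show (M.restrictAppIso hU.fromSpec ⊤).inv (res M himTop.le (res M himTop.ge _)) = x
      rw [res_res, res_self, Iso.hom_inv_id_apply]
    right_inv := fun y => by
      show res M himTop.ge ((M.restrictAppIso hU.fromSpec ⊤).hom
        ((M.restrictAppIso hU.fromSpec ⊤).inv (res M himTop.le y))) = y
      rw [Iso.inv_hom_id_apply, res_res, res_self] }

/-- The restriction algebra of a smaller open. -/
abbrev resAlg {V : X.Opens} (h : V ≤ U) : Algebra Γ(X, U) Γ(X, V) :=
  (X.presheaf.map (homOfLE h).op).hom.toAlgebra

/-- Sections on a smaller open, over the bigger ring. -/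
abbrev resModule {V : X.Opens} (h : V ≤ U) : Module Γ(X, U) Γ(M, V) :=
  Module.compHom Γ(M, V) (X.presheaf.map (homOfLE h).op).hom

lemma isScalarTower_res {V : X.Opens} (h : V ≤ U) :
    letI := resAlg h; letI := resModule M h
    IsScalarTower Γ(X, U) Γ(X, V) Γ(M, V) := by
  letI := resAlg h; letI := resModule M h
  exact IsScalarTower.of_algebraMap_smul fun _ _ => rfl

/-- Restriction as a linear map. -/
def resLin {V : X.Opens} (h : V ≤ U) :
    letI := resModule M h
    Γ(M, U) →ₗ[Γ(X, U)] Γ(M, V) :=
  letI := resModule M h
  { toFun := fun x => res M h x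
    map_add' := fun a b => res_add h a b
    map_smul' := fun r x => res_smul h r x }

theorem isLocalizedModule_resLin (hM : IsLocAt M U) (f : Γ(X, U)) :
    letI := resModule M (X.basicOpen_le f)
    IsLocalizedModule (Submonoid.powers f) (resLin M (X.basicOpen_le f)) := by
  letI := resModule M (X.basicOpen_le f)
  have hu : IsUnit (resO X (X.basicOpen_le f) f) := RingedSpace.isUnit_res_basicOpen _ f
  refine IsLocalizedModule.Away.mk_of_addCommGroup ?_ ?_ ?_
  · rw [Module.End.isUnit_iff]
    exact (hu.smul_bijective : Function.Bijective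
      fun x : Γ(M, X.basicOpen f) => resO X (X.basicOpen_le f) f • x)
  · intro s
    obtain ⟨n, t, ht⟩ := hM.exists_of f s
    refine ⟨n, t, ?_⟩
    show resO X (X.basicOpen_le f) (f ^ n) • s = res M (X.basicOpen_le f) t
    rw [ht, resO_pow]
  · intro t ht
    obtain ⟨n, hn⟩ := hM.eq_zero_of f t ht
    exact ⟨n, hn⟩

theorem isLocalization_resAlg (hU : IsAffineOpen U) (f : Γ(X, U)) :
    letI := resAlg (X.basicOpen_le f)
    IsLocalization.Away f Γ(X, X.basicOpen f) :=
  hU.isLocalization_of_eq_basicOpen f (homOfLE (X.basicOpen_le f)) rfl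

end Groth.Agent.Props58.LocFree
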